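import Mathlib
import Cfsg.Agent.H12.DuadIndex

/-!
A transitive group on 100 points with a point stabiliser having orbits of 22 and 77 points
preserves a strongly regular graph with parameters (100, 22, 0, 6).
-/

set_option autoImplicit false

namespace Cfsg.Agent.H12.HS

open MulAction

section

variable {G Ω : Type*} [Group G] [MulAction G Ω]

/-- Related pairs: the orbit of `(a, b)`. -/
def orbRel (G : Type*) [Group G] [MulAction G Ω] (a b x y : Ω) : Prop :=
  ∃ g : G, g • a = x ∧ g • b = y

theorem orbRel_iff {a b : Ω} {x y : Ω} {g : G} (hg : g • a = x) :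
    orbRel G a b x y ↔ g⁻¹ • y ∈ orbit (stabilizer G a) b := by
  constructor
  · rintro ⟨h, rfl, rfl⟩
    refine ⟨⟨g⁻¹ * h, ?_⟩, mul_smul _ _ _⟩
    rw [mem_stabilizer_iff, mul_smul, ← hg, inv_smul_smul]
  · rintro ⟨k, hk⟩
    refine ⟨g * k, ?_, ?_⟩
    · rw [mul_smul, k.2, hg]
    · rw [mul_smul, show ((k : G) • b) = g⁻¹ • y from hk, smul_inv_smul]

/-- The suborbit sizes as counts of pairs. -/
theorem card_pair_stab (a b : Ω) :
    Nat.card (stabilizer G a) =
      (orbit (stabilizer G a) b).ncard * Nat.card ↥(stabilizer G a ⊓ stabilizer G b) := by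
  have h := (stabilizer (stabilizer G a) b).card_mul_index
  rw [index_stabilizer] at h
  rw [← h, mul_comm]
  congr 1
  exact Nat.card_congr
    { toFun := fun g => ⟨g.1.1, g.1.2, g.2⟩
      invFun := fun g => ⟨⟨g.1, g.2.1⟩, g.2.2⟩
      left_inv := fun _ => rfl
      right_inv := fun _ => rfl }

/-- A suborbit whose size differs from that of the other one is self-paired. -/
theorem orbRel_symm [Finite G] {a b : Ω} (c : Ω)
    (hbc : (orbit (stabilizer G a) b).ncard ≠ (orbit (stabilizer G a) c).ncard)
    (hcov : ∀ x, x = a ∨ x ∈ orbit (stabilizer G a) b ∨ x ∈ orbit (stabilizer G a) c)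
    (hne : b ≠ a) [IsPretransitive G Ω] {x y : Ω} (h : orbRel G a b x y) : orbRel G a b y x := by
  obtain ⟨g, rfl, rfl⟩ := h
  suffices h1 : orbRel G a b b a by
    obtain ⟨k, hk1, hk2⟩ := h1
    exact ⟨g * k, by rw [mul_smul, hk1], by rw [mul_smul, hk2]⟩
  obtain ⟨k, hk⟩ := exists_smul_eq G a b
  rw [orbRel_iff hk]
  rcases hcov (k⁻¹ • a) with e | e | e
  · exact absurd (hk.symm.trans (inv_smul_eq_iff.mp e).symm) hne
  · exact e
  · exfalso
    obtain ⟨s, hs⟩ := e
    -- the element `k * s` reverses `(a, b)` into the class of `(a, c)`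
    have e1 : (k * s) • a = b := by rw [mul_smul, s.2, hk]
    have e2 : (k * s) • c = a := by
      rw [mul_smul, show ((s : G) • c) = k⁻¹ • a from hs, smul_inv_smul]
    have hcard : Nat.card ↥(stabilizer G a ⊓ stabilizer G c) =
        Nat.card ↥(stabilizer G a ⊓ stabilizer G b) := by
      refine Nat.card_congr
        { toFun := fun g => ⟨(k * s) * g.1 * (k * s)⁻¹, ?_, ?_⟩
          invFun := fun g => ⟨(k * s)⁻¹ * g.1 * (k * s), ?_, ?_⟩
          left_inv := fun g => Subtype.ext (show (k * (s : G))⁻¹ *
            ((k * s) * g.1 * (k * s)⁻¹) * (k * s) = g.1 by group)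
          right_inv := fun g => Subtype.ext (show (k * (s : G)) *
            ((k * s)⁻¹ * g.1 * (k * s)) * (k * s)⁻¹ = g.1 by group) }
      · have e2' : (k * (s : G))⁻¹ • a = c := inv_smul_eq_iff.mpr e2.symm
        show ((k * (s : G)) * g.1 * (k * s)⁻¹) • a = a
        rw [mul_smul, e2', mul_smul, show g.1 • c = c from g.2.2, e2]
      · have e1' : (k * (s : G))⁻¹ • b = a := inv_smul_eq_iff.mpr e1.symm
        show ((k * (s : G)) * g.1 * (k * s)⁻¹) • b = b
        rw [mul_smul, e1', mul_smul, show g.1 • a = a from g.2.1, e1]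
      · show ((k * (s : G))⁻¹ * g.1 * (k * s)) • a = a
        rw [mul_smul, mul_smul, e1, show g.1 • b = b from g.2.2, inv_smul_eq_iff, e1]
      · show ((k * (s : G))⁻¹ * g.1 * (k * s)) • c = c
        rw [mul_smul, mul_smul, e2, show g.1 • a = a from g.2.1, inv_smul_eq_iff, e2]
    have h1 := card_pair_stab (G := G) a b
    have h2 := card_pair_stab (G := G) a c
    rw [hcard, h1] at h2
    exact hbc (Nat.eq_of_mul_eq_mul_right Nat.card_pos h2)

end

theorem param_arith {u v : ℕ} (hrel : 2 * u * 11 + 77 * v + 22 = 484) (hzero : v ≠ 0)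
    (htri : 3 ∣ 2200 * u) : u = 0 ∧ v = 6 := by
  have h3 : 3 ∣ u := (Nat.Coprime.dvd_mul_left (by norm_num)).mp htri
  clear htri
  have h1 : v ≤ 6 := by omega
  have h2 : 2 * u + 7 * v = 42 := by omega
  clear hrel
  interval_cases v <;> omega

theorem clique_arith {u v : ℕ} (hrel : 2 * u * 11 + 77 * v + 22 = 484) (h0 : v = 0) : u = 21 := by
  subst h0
  omega

set_option maxHeartbeats 400000 in
/-- The strongly regular graph of a rank three group on 100 points with suborbits 22 and 77. -/
theorem exists_srg {G Ω : Type*} [Group G] [Finite G] [MulAction G Ω] [IsPretransitive G Ω]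
    [Fintype Ω] [DecidableEq Ω] (hΩ : Fintype.card Ω = 100) (a b c : Ω)
    (hb : (orbit (stabilizer G a) b).ncard = 22) (hc : (orbit (stabilizer G a) c).ncard = 77) :
    ∃ (Γ : SimpleGraph Ω) (_ : DecidableRel Γ.Adj), Γ.IsSRGWith 100 22 0 6 ∧
      ∀ (g : G) x y, Γ.Adj (g • x) (g • y) ↔ Γ.Adj x y := by
  classical
  set Ob := orbit (stabilizer G a) b
  set Oc := orbit (stabilizer G a) c
  have hfixa : orbit (stabilizer G a) a = {a} := by
    ext x
    refine ⟨fun ⟨g, hg⟩ => hg.symm.trans g.2, ?_⟩
    rintro rfl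
    exact mem_orbit_self _
  have hab : a ∉ Ob := fun h => by
    rw [← orbit_eq_iff, hfixa] at h
    have : Ob.ncard = 1 := by rw [show Ob = {a} from h.symm, Set.ncard_singleton]
    omega
  have hac : a ∉ Oc := fun h => by
    rw [← orbit_eq_iff, hfixa] at h
    have : Oc.ncard = 1 := by rw [show Oc = {a} from h.symm, Set.ncard_singleton]
    omega
  have hbc : Disjoint Ob Oc := by
    rw [Set.disjoint_left]
    intro x hx hx'
    have : Ob = Oc := (orbit_eq_iff.mpr hx).symm.trans (orbit_eq_iff.mpr hx')
    rw [this, hc] at hb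
    omega
  have hcov : ∀ x, x = a ∨ x ∈ Ob ∨ x ∈ Oc := by
    have huniv : ({a} ∪ Ob ∪ Oc : Set Ω) = Set.univ := by
      refine Set.eq_of_subset_of_ncard_le (Set.subset_univ _) ?_
      rw [Set.ncard_univ, Nat.card_eq_fintype_card, hΩ,
        Set.ncard_union_eq (by
          rw [Set.disjoint_union_left]
          exact ⟨Set.disjoint_singleton_left.mpr hac, hbc⟩),
        Set.ncard_union_eq (Set.disjoint_singleton_left.mpr hab), Set.ncard_singleton, hb, hc]
    intro x
    have hx := Set.mem_univ x
    rw [← huniv] at hx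
    rcases hx with (h | h) | h
    exacts [Or.inl h, Or.inr (Or.inl h), Or.inr (Or.inr h)]
  have hne : b ≠ a := fun e => hab (e ▸ mem_orbit_self b)
  have hsymm : ∀ x y, orbRel G a b x y → orbRel G a b y x := fun x y h =>
    orbRel_symm c (by rw [hb, hc]; norm_num) hcov hne h
  have hirr : ∀ x, ¬ orbRel G a b x x := fun x ⟨g, h1, h2⟩ =>
    hne (smul_left_cancel g (h2.trans h1.symm))
  let Γ : SimpleGraph Ω :=
    { Adj := orbRel G a b, symm := ⟨hsymm⟩, loopless := ⟨hirr⟩ }
  haveI : DecidableRel Γ.Adj := Classical.decRel _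
  have hinv : ∀ (g : G) x y, Γ.Adj (g • x) (g • y) ↔ Γ.Adj x y := by
    intro g x y
    constructor
    · rintro ⟨k, h1, h2⟩
      exact ⟨g⁻¹ * k, by rw [mul_smul, h1, inv_smul_smul], by rw [mul_smul, h2, inv_smul_smul]⟩
    · rintro ⟨k, h1, h2⟩
      exact ⟨g * k, by rw [mul_smul, h1], by rw [mul_smul, h2]⟩
  have hAdja : ∀ y, Γ.Adj a y ↔ y ∈ Ob := fun y => by
    show orbRel G a b a y ↔ _
    rw [orbRel_iff (one_smul G a), inv_one, one_smul]
  let N : Ω → Finset Ω := fun x => Finset.univ.filter fun y => Γ.Adj x y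
  have hN : ∀ (g : G) x, N (g • x) = (N x).image fun y => g • y := by
    intro g x
    ext y
    simp only [N, Finset.mem_filter, Finset.mem_univ, true_and, Finset.mem_image]
    exact ⟨fun h => ⟨g⁻¹ • y, (hinv g _ _).mp (by rwa [smul_inv_smul]), smul_inv_smul g y⟩,
      fun ⟨z, hz, e⟩ => e ▸ (hinv g x z).mpr hz⟩
  have hNa : (N a).card = 22 := by
    rw [← hb, ← Set.ncard_coe_finset]
    congr 1
    ext y
    simp [N, hAdja]
  have hNcard : ∀ x, (N x).card = 22 := by
    intro x
    obtain ⟨g, rfl⟩ := exists_smul_eq G a x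
    rw [hN, Finset.card_image_of_injective _ (MulAction.injective g), hNa]
  let cn : Ω → Ω → ℕ := fun x y => (N x ∩ N y).card
  have hcn : ∀ (g : G) x y, cn (g • x) (g • y) = cn x y := fun g x y => by
    simp only [cn]
    rw [hN, hN, ← Finset.image_inter _ _ (MulAction.injective g),
      Finset.card_image_of_injective _ (MulAction.injective g)]
  have hadjc : ∀ x y, Γ.Adj x y → cn x y = cn a b := by
    rintro x y ⟨g, rfl, rfl⟩
    exact hcn g a b
  have hnadjc : ∀ x y, x ≠ y → ¬ Γ.Adj x y → cn x y = cn a c := by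
    intro x y hxy hna
    obtain ⟨g, rfl⟩ := exists_smul_eq G a x
    rcases hcov (g⁻¹ • y) with e | e | e
    · exact absurd (inv_smul_eq_iff.mp e).symm hxy
    · exact absurd ((orbRel_iff rfl).mpr e) hna
    · obtain ⟨s, hs⟩ := e
      have e1 : (g * s) • a = g • a := by rw [mul_smul, s.2]
      have e2 : (g * s) • c = y := by
        rw [mul_smul, show ((s : G) • c) = g⁻¹ • y from hs, smul_inv_smul]
      rw [← e1, ← e2]
      exact hcn _ a c
  -- double counting the paths of length two from `a`
  have hrel : 2 * cn a b * 11 + 77 * cn a c + 22 = 484 := by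
    have h1 : ∑ z, cn a z = ∑ w ∈ N a, (N w).card := by
      have hswap : ∀ z, cn a z = ((N a).filter fun w => z ∈ N w).card := fun z => by
        simp only [cn]
        congr 1
        ext w
        simp [N, Γ.adj_comm z w]
      simp_rw [hswap, Finset.card_filter]
      rw [Finset.sum_comm]
      refine Finset.sum_congr rfl fun w _ => ?_
      rw [← Finset.card_filter]
      congr 1
      ext z
      simp
    rw [Finset.sum_congr rfl (fun w _ => hNcard w), Finset.sum_const, hNa, smul_eq_mul] at h1
    have h2 : ∀ z, cn a z = (if z = a then 22 else 0) + (if z ∈ Ob then cn a b else 0) +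
        (if z ∈ Oc then cn a c else 0) := by
      intro z
      rcases hcov z with rfl | h | h
      · simp [hab, hac, cn, hNa]
      · have : z ∉ Oc := Set.disjoint_left.mp hbc h
        have hza : z ≠ a := fun e => hab (e ▸ h)
        simp [h, this, hza, hadjc a z ((hAdja z).mpr h)]
      · have : z ∉ Ob := fun h' => Set.disjoint_left.mp hbc h' h
        have hza : z ≠ a := fun e => hac (e ▸ h)
        simp [h, this, hza, hnadjc a z (Ne.symm hza) (fun h' => this ((hAdja z).mp h'))]
    rw [Finset.sum_congr rfl (fun z _ => h2 z), Finset.sum_add_distrib, Finset.sum_add_distrib,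
      ← Finset.sum_filter, ← Finset.sum_filter, ← Finset.sum_filter] at h1
    simp only [Finset.sum_const, smul_eq_mul] at h1
    have c1 : (Finset.univ.filter fun z => z = a).card = 1 := by
      rw [Finset.filter_eq' Finset.univ a, if_pos (Finset.mem_univ a), Finset.card_singleton]
    have c2 : (Finset.univ.filter fun z => z ∈ Ob).card = 22 := by
      rw [← hb, ← Set.ncard_coe_finset]; simp
    have c3 : (Finset.univ.filter fun z => z ∈ Oc).card = 77 := by
      rw [← hc, ← Set.ncard_coe_finset]; simp
    rw [c1, c2, c3] at h1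
    omega
  -- triangles
  have htri : 3 ∣ 2200 * cn a b := by
    let T : Finset (Ω × Ω × Ω) := Finset.univ.filter fun t =>
      Γ.Adj t.1 t.2.1 ∧ Γ.Adj t.2.1 t.2.2 ∧ Γ.Adj t.2.2 t.1
    have hT : T.card = 2200 * cn a b := by
      rw [show T = ((Finset.univ : Finset Ω).sigma fun x => N x).biUnion (fun p =>
          (N p.1 ∩ N p.2).image fun z => (p.1, p.2, z)) by
        ext ⟨x, y, z⟩
        simp only [T, Finset.mem_filter, Finset.mem_univ, true_and, Finset.mem_biUnion,
          Finset.mem_sigma, Finset.mem_image, Finset.mem_inter, N, Prod.mk.injEq]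
        constructor
        · rintro ⟨h1, h2, h3⟩
          exact ⟨⟨x, y⟩, h1, z, ⟨h3.symm, h2⟩, rfl, rfl, rfl⟩
        · rintro ⟨⟨u, v⟩, h1, w, ⟨h2, h3⟩, rfl, rfl, rfl⟩
          exact ⟨h1, h3, h2.symm⟩, Finset.card_biUnion (by
        intro p _ q _ hpq
        rw [Function.onFun, Finset.disjoint_left]
        simp only [Finset.mem_image]
        rintro _ ⟨u, _, rfl⟩ ⟨v, _, e⟩
        simp only [Prod.mk.injEq] at e
        obtain ⟨p1, p2⟩ := p
        obtain ⟨q1, q2⟩ := q
        obtain ⟨rfl, rfl, -⟩ := e
        exact hpq rfl)]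
      rw [Finset.sum_congr rfl (g := fun _ => cn a b) fun p hp => by
        rw [Finset.card_image_of_injective _ (fun u v h => by simpa using h)]
        simp only [Finset.mem_sigma, Finset.mem_univ, true_and, N, Finset.mem_filter] at hp
        exact hadjc _ _ hp]
      rw [Finset.sum_const, Finset.card_sigma, Finset.sum_congr rfl (fun x _ => hNcard x),
        Finset.sum_const, Finset.card_univ, hΩ, smul_eq_mul, smul_eq_mul]
    let σ : Equiv.Perm (Ω × Ω × Ω) :=
      { toFun := fun t => (t.2.1, t.2.2, t.1)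
        invFun := fun t => (t.2.2, t.1, t.2.1)
        left_inv := fun _ => rfl
        right_inv := fun _ => rfl }
    have h3 := dvd_moved_card (g := σ) Nat.prime_three (Equiv.ext fun t => rfl) (s := T) (fun t => by
      simp only [T, Finset.mem_filter, Finset.mem_univ, true_and]
      exact ⟨fun ⟨h1, h2, h3⟩ => ⟨h3, h1, h2⟩, fun ⟨h1, h2, h3⟩ => ⟨h2, h3, h1⟩⟩)
    rw [Finset.filter_true_of_mem (fun t ht => ?_), hT] at h3
    · exact h3
    · intro e
      simp only [T, Finset.mem_filter, Finset.mem_univ, true_and] at ht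
      have e1 : t.2.1 = t.1 := congrArg (fun u : Ω × Ω × Ω => u.1) e
      exact ht.1.ne e1.symm
  -- disjoint cliques are impossible
  have hzero : cn a c ≠ 0 := by
    intro h0
    have hl : cn a b = 21 := clique_arith hrel h0
    let C : Ω → Finset Ω := fun x => insert x (N x)
    have hNx : ∀ x, x ∉ N x := fun x h => hirr x (Finset.mem_filter.mp h).2
    have hCcard : ∀ x, (C x).card = 23 := fun x => by
      show (insert x (N x)).card = 23
      rw [Finset.card_insert_of_notMem (hNx x), hNcard]
    have hC : ∀ x y, y ∈ C x → C y = C x := by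
      intro x y hy
      rcases Finset.mem_insert.mp hy with rfl | hy'
      · rfl
      simp only [N, Finset.mem_filter, Finset.mem_univ, true_and] at hy'
      refine Finset.eq_of_subset_of_card_le (fun z hz => ?_) (by rw [hCcard, hCcard])
      rcases Finset.mem_insert.mp hz with rfl | hz
      · exact hy
      by_cases hzx : z = x
      · exact hzx ▸ Finset.mem_insert_self _ _
      have hsub : (N x).erase y = N x ∩ N y := by
        refine (Finset.eq_of_subset_of_card_le (fun w hw => ?_) ?_).symm
        · rw [Finset.mem_inter] at hw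
          refine Finset.mem_erase.mpr ⟨fun e => ?_, hw.1⟩
          exact hNx y (e ▸ hw.2)
        · rw [Finset.card_erase_of_mem (by simp [N, hy']), hNcard]
          show 21 ≤ cn x y
          rw [hadjc x y hy', hl]
      by_contra hzC
      have hzN : z ∉ N x := fun h => hzC (Finset.mem_insert_of_mem h)
      have hpos : 0 < cn x z := Finset.card_pos.mpr ⟨y, by
        simp only [N, Finset.mem_filter, Finset.mem_univ, true_and] at hz
        simp [N, hy', Γ.adj_comm z y, hz]⟩
      rw [hnadjc x z (Ne.symm hzx) (fun h => hzN (by simp [N, h])), h0] at hpos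
      exact lt_irrefl 0 hpos
    have h := Finset.card_eq_sum_card_fiberwise (s := (Finset.univ : Finset Ω))
      (t := Finset.univ.image C) (f := C) (fun x _ => by simp)
    rw [Finset.sum_congr rfl (g := fun _ => 23) fun D hD => by
      obtain ⟨x, -, rfl⟩ := Finset.mem_image.mp hD
      rw [← hCcard x]
      congr 1
      ext y
      simp only [Finset.mem_filter, Finset.mem_univ, true_and]
      exact ⟨fun e => e ▸ Finset.mem_insert_self _ _, hC x y⟩] at h
    rw [Finset.sum_const, smul_eq_mul, Finset.card_univ, hΩ] at h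
    omega
  have hpar : cn a b = 0 ∧ cn a c = 6 := param_arith hrel hzero htri
  refine ⟨Γ, inferInstance, ⟨hΩ, fun x => ?_, fun x y h => ?_, fun x y hxy h => ?_⟩, hinv⟩
  · rw [← hNcard x, ← SimpleGraph.card_neighborFinset_eq_degree]
    congr 1
    ext y
    simp [N]
  · rw [← hpar.1, ← hadjc x y h, Fintype.card_subtype]
    congr 1
    ext z
    simp [N, SimpleGraph.mem_commonNeighbors]
  · rw [← hpar.2, ← hnadjc x y hxy h, Fintype.card_subtype]
    congr 1
    ext z
    simp [N, SimpleGraph.mem_commonNeighbors]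

end Cfsg.Agent.H12.HS
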