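import Cfsg.Agent.H12.HS.RankThree
import Cfsg.Agent.H14.HSGraph
import Cfsg.Agent.H10.Srg100
import Cfsg.Agent.H13.Groups
import Cfsg.Agent.S0428
import Cfsg.Agent.S1586

/-!
A rank three group on 100 points with point stabiliser `M₂₂` is the Higman–Sims group.
-/

set_option autoImplicit false

namespace Cfsg.Agent.H12.HS

open MulAction

/-- The second vector with which `leechV` gives the configuration. -/
noncomputable def hsW : ↥leechLattice := -(Spor.leechV + Spor.leechU')

theorem hs_norms :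
    sqNorm (Spor.leechV : GolayPt → ℤ) = 48 ∧ sqNorm (hsW : GolayPt → ℤ) = 48 ∧
      dotInt (Spor.leechV : GolayPt → ℤ) (hsW : GolayPt → ℤ) = -32 := by
  show sqNorm Spor.vecV = 48 ∧ sqNorm (-(Spor.vecV + Spor.vecU')) = 48 ∧
    dotInt Spor.vecV (-(Spor.vecV + Spor.vecU')) = -32
  decide +kernel

/-- The Higman–Sims group of the list is the configuration group. -/
theorem nonempty_equiv_hsGrp : Nonempty (↥Spor.HS ≃* ↥H14.HSGraph.hsGrp) := by
  have hle : Spor.HS ≤ Co0 := fun g hg => hg.1.1
  have h1 : Spor.HS.subgroupOf Co0 = stabilizer Co0 Spor.leechV ⊓ stabilizer Co0 hsW := by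
    ext g
    show ((g : Equiv.Perm ↥leechLattice) ∈ Co0 ∧ g • Spor.leechV = Spor.leechV) ∧
      g • Spor.leechU' = Spor.leechU' ↔ g • Spor.leechV = Spor.leechV ∧ g • hsW = hsW
    constructor
    · rintro ⟨⟨-, hv⟩, hu⟩
      exact ⟨hv, by rw [hsW, H15.co0_smul_neg, H15.co0_smul_add, hv, hu]⟩
    · rintro ⟨hv, hw⟩
      refine ⟨⟨g.2, hv⟩, ?_⟩
      rw [hsW, H15.co0_smul_neg, H15.co0_smul_add, hv] at hw
      exact add_left_cancel (neg_injective hw)
  obtain ⟨g, g1, g2⟩ := H15.exists_redHS hs_norms.1 hs_norms.2.1 hs_norms.2.2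
  exact ⟨((Subgroup.subgroupOfEquivOfLe hle).symm.trans (MulEquiv.subgroupCongr h1)).trans
    ((H14.stabPairEquiv g g1 g2).trans ((MulEquiv.subgroupCongr H14.stab_bW_bV).trans
      (MulEquiv.subgroupCongr (by rw [H14.HSGraph.hsGrp, H14.bV_eq, H14.bA_eq]))))⟩

/-- In a group with a simple subgroup of index two, every subgroup of index two is that one. -/
theorem eq_of_simple_index_two {A : Type*} [Group A] [Finite A] {H K : Subgroup A}
    (hK : IsSimpleGroup K) (hH : H.index = 2) (hc : Nat.card H = Nat.card K)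
    (h2 : ¬ Nat.card K ∣ 2) : H = K := by
  have := Subgroup.normal_of_index_eq_two hH
  rcases hK.eq_bot_or_eq_top_of_normal (H.subgroupOf K) inferInstance with h | h
  · exfalso
    have h' : (H.subgroupOf K).index ∣ H.index := Subgroup.relIndex_dvd_index_of_normal (H := H) K
    rw [h, Subgroup.index_bot, hH] at h'
    exact h2 h'
  · exact (Subgroup.eq_of_le_of_card_ge (Subgroup.subgroupOf_eq_top.mp h) hc.le).symm

/-- A permutation group preserving a graph, as graph automorphisms. -/
def autHom {Ω : Type*} (G : Subgroup (Equiv.Perm Ω)) (Γ : SimpleGraph Ω)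
    (hinv : ∀ (g : G) x y, Γ.Adj (g • x) (g • y) ↔ Γ.Adj x y) : G →* (Γ ≃g Γ) where
  toFun g := { toEquiv := (g : Equiv.Perm Ω), map_rel_iff' := hinv g _ _ }
  map_one' := RelIso.ext fun _ => rfl
  map_mul' _ _ := RelIso.ext fun _ => rfl

/-- Recognition of the Higman–Sims group as a rank three group. -/
theorem isoHS_of_rank_three {Ω : Type*} [Fintype Ω] [DecidableEq Ω] (hΩ : Fintype.card Ω = 100)
    (G : Subgroup (Equiv.Perm Ω)) [IsPretransitive G Ω] (a : Ω)
    (e : stabilizer G a ≃* Spor.M22) (b c : Ω)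
    (hb : (orbit (stabilizer G a) b).ncard = 22) (hc : (orbit (stabilizer G a) c).ncard = 77) :
    Spor.IsoHS G := by
  classical
  have hG : Nat.card G = 44352000 := by
    rw [← (stabilizer G a).card_mul_index, index_stabilizer, orbit_eq_univ, Set.ncard_univ,
      Nat.card_eq_fintype_card (α := Ω), hΩ, Nat.card_congr e.toEquiv, H13.M22_eq, H13.card_g22]
  obtain ⟨Γ, _, hΓ, hinv⟩ := exists_srg (G := G) hΩ a b c hb hc
  have hsrg := S0428.result (Fintype.card_fin 22) H14.HSGraph.steiner
  obtain ⟨Φ⟩ := H10.srg100_iso hΓ hsrg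
  let ψ := (H14.HSGraph.conjHom Φ.symm).comp (autHom G Γ hinv)
  have hψ : Function.Injective ψ := by
    rw [injective_iff_map_eq_one]
    intro g hg
    refine Subtype.ext (Equiv.ext fun x => ?_)
    have h := congrArg (fun f : pointBlockGraph H14.HSGraph.blocks ≃g
      pointBlockGraph H14.HSGraph.blocks => f (Φ x)) hg
    change Φ ((g : Equiv.Perm Ω) (Φ.symm (Φ x))) = Φ x at h
    rw [Φ.symm_apply_apply] at h
    exact Φ.injective h
  obtain ⟨φ, hφ, -⟩ :=
    H14.HSGraph.exists_hom (Fintype.card_fin 22) H14.HSGraph.steiner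
  have cA := S1586.result (Fintype.card_fin 22) H14.HSGraph.steiner
  have : Finite (pointBlockGraph H14.HSGraph.blocks ≃g pointBlockGraph H14.HSGraph.blocks) :=
    Nat.finite_of_card_ne_zero (by rw [cA]; norm_num)
  have cH : Nat.card ψ.range = 44352000 := by
    rw [← Nat.card_congr (MonoidHom.ofInjective hψ).toEquiv, hG]
  have cK : Nat.card φ.range = 44352000 := by
    rw [← Nat.card_congr (MonoidHom.ofInjective hφ).toEquiv, H14.HSGraph.card_hsGrp]
  have hidx : ψ.range.index = 2 := by
    have h := ψ.range.card_mul_index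
    rw [cH, cA] at h
    omega
  have := H14.HSGraph.hsGrp_simple
  have hKs : IsSimpleGroup φ.range := MulEquiv.isSimpleGroup (MonoidHom.ofInjective hφ).symm
  have hEq : ψ.range = φ.range :=
    eq_of_simple_index_two hKs hidx (cH.trans cK.symm) (by rw [cK]; norm_num)
  obtain ⟨i⟩ := nonempty_equiv_hsGrp
  exact ⟨(MonoidHom.ofInjective hψ).trans ((MulEquiv.subgroupCongr hEq).trans
    ((MonoidHom.ofInjective hφ).symm.trans i.symm))⟩

end Cfsg.Agent.H12.HS
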